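import Mathlib.RingTheory.Flat.FaithfullyFlat.Algebra
import Mathlib.RingTheory.RingHom.Flat

/-!
# Descent of flatness along faithfully flat algebras

`flat_of_faithfullyFlat_baseChange`: if `C` is faithfully flat over `B` and `C ⊗[B] M` is flat over `A`,
then `M` is flat over `A`; `flat_of_comp_faithfullyFlat`: the ring map version.
-/

namespace Groth.Agent.FDesc.Algebra

open TensorProduct

universe u v w z

variable {A : Type u} {B : Type v} {C : Type w} [CommRing A] [CommRing B] [CommRing C]
  [Algebra A B] [Algebra B C] [Algebra A C] [IsScalarTower A B C]

/-- Flatness over `A` of a `B`-module descends along a faithfully flat `B`-algebra. -/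
theorem flat_of_faithfullyFlat_baseChange [Module.FaithfullyFlat B C]
    (M : Type z) [AddCommGroup M] [Module A M] [Module B M] [IsScalarTower A B M]
    [h : Module.Flat A (C ⊗[B] M)] : Module.Flat A M := by
  rw [Module.Flat.iff_lTensor_preserves_injective_linearMap]
  intro N P _ _ _ _ f hf
  let fB : M ⊗[A] N →ₗ[B] M ⊗[A] P := TensorProduct.AlgebraTensorModule.map LinearMap.id f
  have hfB : ∀ x, fB x = f.lTensor M x := by
    intro x
    induction x using TensorProduct.induction_on with
    | zero => simp
    | tmul a b => rfl
    | add a b ha hb => simp [map_add, ha, hb]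
  suffices hi : Function.Injective (fB.lTensor C) by
    intro a b hab
    have := (Module.FaithfullyFlat.lTensor_injective_iff_injective B C fB).mp hi
    exact this (by rw [hfB, hfB, hab])
  let eN := TensorProduct.AlgebraTensorModule.assoc A B B C M N
  let eP := TensorProduct.AlgebraTensorModule.assoc A B B C M P
  have hcomm : ∀ x, fB.lTensor C (eN x) = eP (f.lTensor (C ⊗[B] M) x) := by
    intro x
    induction x using TensorProduct.induction_on with
    | zero => simp
    | add a b ha hb => simp [map_add, ha, hb]
    | tmul a n =>
      induction a using TensorProduct.induction_on with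
      | zero => simp
      | add a b ha hb => simp only [add_tmul, map_add, ha, hb]
      | tmul c m => rfl
  intro a b hab
  obtain ⟨a, rfl⟩ := eN.surjective a
  obtain ⟨b, rfl⟩ := eN.surjective b
  rw [hcomm, hcomm] at hab
  rw [Module.Flat.lTensor_preserves_injective_linearMap f hf (eP.injective hab)]

/-- If `B → C` is faithfully flat and `A → C` is flat then `A → B` is flat. -/
theorem flat_of_comp_faithfullyFlat [Module.FaithfullyFlat B C] [Module.Flat A C] :
    Module.Flat A B := by
  have : Module.Flat A (C ⊗[B] B) :=
    Module.Flat.of_linearEquiv ((TensorProduct.AlgebraTensorModule.rid B C C).restrictScalars A)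
  exact flat_of_faithfullyFlat_baseChange (A := A) (B := B) (C := C) B

end Groth.Agent.FDesc.Algebra
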