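import Groth.Agent.PullStalk.Basic
import Groth.Agent.FDesc.Algebra
import Mathlib.AlgebraicGeometry.Morphisms.Flat

/-!
# Flatness of pullbacks of modules along flat morphisms

`flatOverAt_pullback_iff`: if `f` is flat at `x`, `f^* G` is flat over the base at `x` iff `G` is at `f x`.
`unitStalkHom_injective`, `unitStalkHom_natural`.
-/

universe u v w z

open CategoryTheory AlgebraicGeometry TopologicalSpace Opposite
open scoped TensorProduct

namespace Groth.Agent.FDesc.Stalk

open Groth.Agent.PullStalk

/-- `C ⊗[B] M` is flat over `A` if `M` is and `C` is flat over `B`. -/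
theorem flat_baseChange {A : Type u} {B : Type v} {C : Type w} [CommRing A] [CommRing B] [CommRing C]
    [Algebra A B] [Algebra B C] [Algebra A C] [IsScalarTower A B C] [Module.Flat B C]
    (M : Type z) [AddCommGroup M] [Module A M] [Module B M] [IsScalarTower A B M]
    [Module.Flat A M] : Module.Flat A (C ⊗[B] M) := by
  rw [Module.Flat.iff_lTensor_preserves_injective_linearMap]
  intro N P _ _ _ _ f hf
  let fB : M ⊗[A] N →ₗ[B] M ⊗[A] P := TensorProduct.AlgebraTensorModule.map LinearMap.id f
  have hfB : ∀ x, fB x = f.lTensor M x := by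
    intro x
    induction x using TensorProduct.induction_on with
    | zero => simp
    | tmul a b => rfl
    | add a b ha hb => simp [map_add, ha, hb]
  have hinj : Function.Injective fB := by
    intro a b hab
    rw [hfB, hfB] at hab
    exact Module.Flat.lTensor_preserves_injective_linearMap f hf hab
  let eN := TensorProduct.AlgebraTensorModule.assoc A B B C M N
  let eP := TensorProduct.AlgebraTensorModule.assoc A B B C M P
  have hcomm : ∀ x, fB.lTensor C (eN x) = eP (f.lTensor (C ⊗[B] M) x) := by
    intro x
    induction x using TensorProduct.induction_on with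
    | zero => simp
    | add a b ha hb => simp [map_add, ha, hb]
    | tmul a n =>
      induction a using TensorProduct.induction_on with
      | zero => simp
      | add a b ha hb => simp only [TensorProduct.add_tmul, map_add, ha, hb]
      | tmul c m => rfl
  intro a b hab
  refine eN.injective (Module.Flat.lTensor_preserves_injective_linearMap fB hinj ?_)
  rw [hcomm, hcomm, hab]

variable {X Y Z : Scheme.{u}}

/-- The stalk of a pullback, as an equivalence. -/
theorem exists_stalk_equiv (f : X ⟶ Y) (G : Y.Modules) (x : X) :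
    letI := (f.stalkMap x).hom.toAlgebra
    ∃ e : X.presheaf.stalk x ⊗[Y.presheaf.stalk (f x)] G.presheaf.stalk (f x) ≃ₗ[X.presheaf.stalk x]
        ((Scheme.Modules.pullback f).obj G).presheaf.stalk x,
      ∀ r t, e (r ⊗ₜ t) = r • Basic.unitStalkHom f G x t := by
  let := (f.stalkMap x).hom.toAlgebra
  let := Basic.moduleOver f G x
  have : IsScalarTower (Y.presheaf.stalk (f x)) (X.presheaf.stalk x)
      (((Scheme.Modules.pullback f).obj G).presheaf.stalk x) :=
    IsScalarTower.of_algebraMap_smul fun _ _ => rfl
  exact ⟨(Basic.isBaseChange_unitStalk f G x).equiv, fun r t => IsBaseChange.equiv_tmul _ r t⟩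

/-- A morphism flat at `x` makes the local ring at `x` faithfully flat. -/
theorem faithfullyFlat_stalkMap (f : X ⟶ Y) (x : X) (hf : (f.stalkMap x).hom.Flat) :
    letI := (f.stalkMap x).hom.toAlgebra
    Module.FaithfullyFlat (Y.presheaf.stalk (f x)) (X.presheaf.stalk x) :=
  letI := (f.stalkMap x).hom.toAlgebra
  @Module.FaithfullyFlat.of_flat_of_isLocalHom _ _ _ _ _ _ _ hf (f.toLRSHom.prop x)

theorem flatOverAt_pullback_iff (f : X ⟶ Y) (g : Y ⟶ Z) (G : Y.Modules) (x : X)
    (hf : (f.stalkMap x).hom.Flat) :
    FlatMod.IsFlatOverAt (f ≫ g) ((Scheme.Modules.pullback f).obj G) x ↔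
      FlatMod.IsFlatOverAt g G (f x) := by
  let iBC : Algebra (Y.presheaf.stalk (f x)) (X.presheaf.stalk x) := (f.stalkMap x).hom.toAlgebra
  have : Module.FaithfullyFlat (Y.presheaf.stalk (f x)) (X.presheaf.stalk x) :=
    faithfullyFlat_stalkMap f x hf
  let : Algebra (Z.presheaf.stalk (g (f x))) (Y.presheaf.stalk (f x)) :=
    (g.stalkMap (f x)).hom.toAlgebra
  let : Algebra (Z.presheaf.stalk (g (f x))) (X.presheaf.stalk x) :=
    ((f ≫ g).stalkMap x).hom.toAlgebra
  have : IsScalarTower (Z.presheaf.stalk (g (f x))) (Y.presheaf.stalk (f x)) (X.presheaf.stalk x) :=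
    IsScalarTower.of_algebraMap_eq' (congrArg CommRingCat.Hom.hom (Scheme.Hom.stalkMap_comp f g x))
  let := FlatMod.moduleStalkOver g G (f x)
  have : IsScalarTower (Z.presheaf.stalk (g (f x))) (Y.presheaf.stalk (f x))
      (G.presheaf.stalk (f x)) := IsScalarTower.of_algebraMap_smul fun _ _ => rfl
  let iM : Module (Z.presheaf.stalk (g (f x)))
      (((Scheme.Modules.pullback f).obj G).presheaf.stalk x) :=
    FlatMod.moduleStalkOver (f ≫ g) ((Scheme.Modules.pullback f).obj G) x
  have : IsScalarTower (Z.presheaf.stalk (g (f x))) (X.presheaf.stalk x)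
      (((Scheme.Modules.pullback f).obj G).presheaf.stalk x) :=
    IsScalarTower.of_algebraMap_smul fun _ _ => rfl
  obtain ⟨e, -⟩ := exists_stalk_equiv f G x
  let eA := e.restrictScalars (Z.presheaf.stalk (g (f x)))
  change Module.Flat (Z.presheaf.stalk (g (f x))) _ ↔ Module.Flat (Z.presheaf.stalk (g (f x))) _
  constructor
  · intro h
    have := Module.Flat.of_linearEquiv eA
    exact Algebra.flat_of_faithfullyFlat_baseChange (B := Y.presheaf.stalk (f x))
      (C := X.presheaf.stalk x) (G.presheaf.stalk (f x))
  · intro h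
    have := flat_baseChange (A := Z.presheaf.stalk (g (f x))) (B := Y.presheaf.stalk (f x))
      (C := X.presheaf.stalk x) (G.presheaf.stalk (f x))
    exact Module.Flat.of_linearEquiv eA.symm

theorem unitStalkHom_injective (f : X ⟶ Y) (G : Y.Modules) (x : X)
    (hf : (f.stalkMap x).hom.Flat) : Function.Injective (Basic.unitStalkHom f G x) := by
  let := (f.stalkMap x).hom.toAlgebra
  have := faithfullyFlat_stalkMap f x hf
  obtain ⟨e, he⟩ := exists_stalk_equiv f G x
  intro a b hab
  refine Module.FaithfullyFlat.tensorProduct_mk_injective (A := Y.presheaf.stalk (f x))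
    (B := X.presheaf.stalk x) (G.presheaf.stalk (f x)) (e.injective ?_)
  simp [he, hab]

theorem unitStalkHom_natural (f : X ⟶ Y) {G G' : Y.Modules} (φ : G ⟶ G') (x : X)
    (t : G.presheaf.stalk (f x)) :
    Basic.unitStalkHom f G' x ((TopCat.Presheaf.stalkFunctor Ab (f x)).map φ.mapPresheaf t) =
      (TopCat.Presheaf.stalkFunctor Ab x).map
        ((Scheme.Modules.pullback f).map φ).mapPresheaf (Basic.unitStalkHom f G x t) := by
  obtain ⟨U, hx, m, rfl⟩ := Sky.exists_germM_eq G (f x) t
  rw [Basic.unitStalkHom_germ]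
  refine ((congrArg (Basic.unitStalkHom f G' x)
    (TopCat.Presheaf.stalkFunctor_map_germ_apply U (f x) hx φ.mapPresheaf m)).trans
      (Basic.unitStalkHom_germ f G' x U hx _)).trans ?_
  refine Eq.trans ?_ (TopCat.Presheaf.stalkFunctor_map_germ_apply (f ⁻¹ᵁ U) x hx
    ((Scheme.Modules.pullback f).map φ).mapPresheaf _).symm
  exact congrArg _ (congrArg (fun ψ => Scheme.Modules.Hom.app ψ U m)
    ((Scheme.Modules.pullbackPushforwardAdjunction f).unit.naturality φ))

end Groth.Agent.FDesc.Stalk
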