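import Groth.Agent.FDesc.Stalk
import Mathlib.AlgebraicGeometry.Pullbacks
import Mathlib.AlgebraicGeometry.Morphisms.Preimmersion
import Mathlib.RingTheory.IsTensorProduct
import Mathlib.RingTheory.Localization.AtPrime.Basic
import Mathlib.RingTheory.Flat.Stability

/-!
# Local rings of fibre products and base change of flatness

`flat_stalk_of_isPullback`: `O_{x'}` is flat over `O_{y'} ⊗_{O_y} O_x`;
`flatOverAt_baseChange`: flatness of a module over the base is stable under base change, pointwise.
-/

universe u v w z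

open CategoryTheory AlgebraicGeometry TopologicalSpace Opposite
open scoped TensorProduct

namespace Groth.Agent.FDesc.BaseChangeStalk

variable {X Y X' Y' : Scheme.{u}}

/-- `Spec O_{X,x} ⟶ X` is flat. -/
theorem flat_fromSpecStalk (x : X) : Flat (X.fromSpecStalk x) := by
  obtain ⟨U, hU, hxU, -⟩ := exists_isAffineOpen_mem_and_subset (Opens.mem_top x)
  rw [← hU.fromSpecStalk_eq_fromSpecStalk hxU, IsAffineOpen.fromSpecStalk]
  have : Flat (Spec.map (X.presheaf.germ U x hxU)) := by
    rw [HasRingHomProperty.Spec_iff (P := @Flat)]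
    algebraize [(X.presheaf.germ U x hxU).hom]
    have := hU.isLocalization_stalk ⟨x, hxU⟩
    exact IsLocalization.flat (X.presheaf.stalk x) (hU.primeIdealOf ⟨x, hxU⟩).asIdeal.primeCompl
  exact inferInstance

variable {p : X' ⟶ X} {q : X' ⟶ Y'} {f : X ⟶ Y} {g : Y' ⟶ Y} (sq : IsPullback p q f g) (x' : X')

include sq in
/-- The product map from the tensor product of local rings to the local ring of the fibre product. -/
theorem flat_stalk_of_isPullback
    [Algebra (Y.presheaf.stalk (f (p x'))) (X.presheaf.stalk (p x'))]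
    [Algebra (Y.presheaf.stalk (f (p x'))) (Y'.presheaf.stalk (q x'))]
    (ψ : CommRingCat.of (Y'.presheaf.stalk (q x') ⊗[Y.presheaf.stalk (f (p x'))] X.presheaf.stalk (p x')) ⟶
      X'.presheaf.stalk x')
    (hl : CommRingCat.ofHom Algebra.TensorProduct.includeLeftRingHom ≫ ψ = q.stalkMap x')
    (hr : CommRingCat.ofHom (Algebra.TensorProduct.includeRight
      (R := Y.presheaf.stalk (f (p x'))) (A := Y'.presheaf.stalk (q x'))).toRingHom ≫ ψ = p.stalkMap x')
    (h₁ : CommRingCat.ofHom (algebraMap (Y.presheaf.stalk (f (p x'))) (X.presheaf.stalk (p x'))) =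
      f.stalkMap (p x'))
    (h₂ : CommRingCat.ofHom (algebraMap (Y.presheaf.stalk (f (p x'))) (Y'.presheaf.stalk (q x'))) =
      Y.presheaf.stalkSpecializes (specializes_of_eq (show g (q x') = f (p x') by
        rw [← Scheme.Hom.comp_apply, ← Scheme.Hom.comp_apply, sq.w])) ≫ g.stalkMap (q x')) :
    ψ.hom.Flat := by
  let A := Y.presheaf.stalk (f (p x'))
  let A' := Y'.presheaf.stalk (q x')
  let B := X.presheaf.stalk (p x')
  let sl : Spec (CommRingCat.of (A' ⊗[A] B)) ⟶ Spec (CommRingCat.of A') :=
    Spec.map (CommRingCat.ofHom Algebra.TensorProduct.includeLeftRingHom)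
  let sr : Spec (CommRingCat.of (A' ⊗[A] B)) ⟶ Spec (CommRingCat.of B) :=
    Spec.map (CommRingCat.ofHom (Algebra.TensorProduct.includeRight (R := A) (A := A')).toRingHom)
  have hw : (sr ≫ X.fromSpecStalk (p x')) ≫ f = (sl ≫ Y'.fromSpecStalk (q x')) ≫ g := by
    have e1 : sr ≫ Spec.map (CommRingCat.ofHom (algebraMap A B)) =
        sl ≫ Spec.map (CommRingCat.ofHom (algebraMap A A')) := by
      rw [← Spec.map_comp, ← Spec.map_comp]
      congr 1
      ext a
      change (1 : A') ⊗ₜ[A] algebraMap A B a = algebraMap A A' a ⊗ₜ[A] (1 : B)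
      rw [Algebra.algebraMap_eq_smul_one, Algebra.algebraMap_eq_smul_one, TensorProduct.tmul_smul,
        TensorProduct.smul_tmul']
    rw [Category.assoc, Category.assoc, ← Scheme.SpecMap_stalkMap_fromSpecStalk f,
      ← Scheme.SpecMap_stalkMap_fromSpecStalk g, ← h₁, reassoc_of% e1, h₂, Spec.map_comp,
      Category.assoc, Scheme.SpecMap_stalkSpecializes_fromSpecStalk]
  let j := sq.lift _ _ hw
  have hjp : j ≫ p = sr ≫ X.fromSpecStalk (p x') := sq.lift_fst _ _ _
  have hjq : j ≫ q = sl ≫ Y'.fromSpecStalk (q x') := sq.lift_snd _ _ _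
  have hfac : Spec.map ψ ≫ j = X'.fromSpecStalk x' := by
    apply sq.hom_ext
    · rw [Category.assoc, hjp, ← Spec.map_comp_assoc, hr, Scheme.SpecMap_stalkMap_fromSpecStalk]
    · rw [Category.assoc, hjq, ← Spec.map_comp_assoc, hl, Scheme.SpecMap_stalkMap_fromSpecStalk]
  have hj : Mono j := by
    refine ⟨fun {W} a b hab => ?_⟩
    have e := pullbackSpecIso A A' B
    rw [← cancel_mono (pullbackSpecIso A A' B).inv]
    apply Limits.pullback.hom_ext
    · rw [Category.assoc, Category.assoc, pullbackSpecIso_inv_fst, ← cancel_mono (Y'.fromSpecStalk (q x'))]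
      rw [Category.assoc, Category.assoc, ← hjq, reassoc_of% hab]
    · rw [Category.assoc, Category.assoc, pullbackSpecIso_inv_snd, ← cancel_mono (X.fromSpecStalk (p x'))]
      have := hab =≫ p
      rw [Category.assoc, Category.assoc, hjp] at this
      simpa [sr] using this
  have sq' : IsPullback (Spec.map ψ) (𝟙 _) j (X'.fromSpecStalk x') := by
    refine ⟨⟨by rw [hfac, Category.id_comp]⟩, ⟨Limits.PullbackCone.isLimitAux' _ fun s => ⟨s.snd, ?_, ?_, ?_⟩⟩⟩
    · change s.snd ≫ Spec.map ψ = s.fst
      rw [← cancel_mono j, Category.assoc, hfac, s.condition]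
    · exact Category.comp_id _
    · intro m _ h
      exact (Category.comp_id m).symm.trans h
  have hflat : Flat (Spec.map ψ) :=
    MorphismProperty.of_isPullback (P := @Flat) sq'.flip (flat_fromSpecStalk x')
  rwa [HasRingHomProperty.Spec_iff (P := @Flat)] at hflat

/-- Algebra: the base change of a module flat over the base, followed by a flat algebra. -/
theorem flat_of_flat_pushout {A : Type u} {A' : Type u} {B : Type u} {C : Type u} [CommRing A]
    [CommRing A'] [CommRing B] [CommRing C] [Algebra A A'] [Algebra A B]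
    [Algebra B C] [Algebra A' C] [Algebra (A' ⊗[A] B) C] [IsScalarTower A' (A' ⊗[A] B) C]
    (hB : (algebraMap (A' ⊗[A] B) C).comp Algebra.TensorProduct.includeRight.toRingHom = algebraMap B C)
    [Module.Flat (A' ⊗[A] B) C]
    (M : Type u) [AddCommGroup M] [Module A M] [Module B M] [IsScalarTower A B M] [Module.Flat A M] :
    Module.Flat A' (C ⊗[B] M) := by
  let : Algebra B (A' ⊗[A] B) := Algebra.TensorProduct.rightAlgebra
  have : IsScalarTower B (A' ⊗[A] B) C := IsScalarTower.of_algebraMap_eq' hB.symm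
  have e : (A' ⊗[A] B) ⊗[B] M ≃ₗ[A'] A' ⊗[A] M := Algebra.IsPushout.cancelBaseChange A A' B _ M
  have : Module.Flat A' ((A' ⊗[A] B) ⊗[B] M) := Module.Flat.of_linearEquiv e
  have := Stalk.flat_baseChange (A := A') (B := A' ⊗[A] B) (C := C) ((A' ⊗[A] B) ⊗[B] M)
  exact Module.Flat.of_linearEquiv
    ((TensorProduct.AlgebraTensorModule.cancelBaseChange B (A' ⊗[A] B) C C M).restrictScalars A').symm

include sq in
/-- Flatness of a module over the base is stable under base change, pointwise. -/
theorem flatOverAt_baseChange (F : X.Modules) (h : FlatMod.IsFlatOverAt f F (p x')) :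
    FlatMod.IsFlatOverAt q ((Scheme.Modules.pullback p).obj F) x' := by
  have he : g (q x') = f (p x') := by rw [← Scheme.Hom.comp_apply, ← Scheme.Hom.comp_apply, sq.w]
  let φ : Y.presheaf.stalk (f (p x')) ⟶ Y'.presheaf.stalk (q x') :=
    Y.presheaf.stalkSpecializes (specializes_of_eq he) ≫ g.stalkMap (q x')
  let : Algebra (Y.presheaf.stalk (f (p x'))) (X.presheaf.stalk (p x')) := (f.stalkMap (p x')).hom.toAlgebra
  let : Algebra (Y.presheaf.stalk (f (p x'))) (Y'.presheaf.stalk (q x')) := φ.hom.toAlgebra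
  let : Algebra (X.presheaf.stalk (p x')) (X'.presheaf.stalk x') := (p.stalkMap x').hom.toAlgebra
  let : Algebra (Y'.presheaf.stalk (q x')) (X'.presheaf.stalk x') := (q.stalkMap x').hom.toAlgebra
  let : Algebra (Y.presheaf.stalk (f (p x'))) (X'.presheaf.stalk x') :=
    (f.stalkMap (p x') ≫ p.stalkMap x').hom.toAlgebra
  have : IsScalarTower (Y.presheaf.stalk (f (p x'))) (X.presheaf.stalk (p x')) (X'.presheaf.stalk x') :=
    IsScalarTower.of_algebraMap_eq' rfl
  have : IsScalarTower (Y.presheaf.stalk (f (p x'))) (Y'.presheaf.stalk (q x')) (X'.presheaf.stalk x') := by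
    refine IsScalarTower.of_algebraMap_eq' (congrArg CommRingCat.Hom.hom
      (?_ : f.stalkMap (p x') ≫ p.stalkMap x' = φ ≫ q.stalkMap x'))
    rw [← Scheme.Hom.stalkMap_comp, Scheme.Hom.stalkMap_congr_hom _ _ sq.w x', Category.assoc,
      Scheme.Hom.stalkMap_comp]
    rfl
  let ψ : (Y'.presheaf.stalk (q x') ⊗[Y.presheaf.stalk (f (p x'))] X.presheaf.stalk (p x'))
      →ₐ[Y.presheaf.stalk (f (p x'))] X'.presheaf.stalk x' :=
    Algebra.TensorProduct.productMap (IsScalarTower.toAlgHom _ _ _) (IsScalarTower.toAlgHom _ _ _)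
  have hflat : ψ.toRingHom.Flat := flat_stalk_of_isPullback sq x' (CommRingCat.ofHom ψ.toRingHom)
    (by ext a; exact Algebra.TensorProduct.productMap_left_apply _ _ a)
    (by ext a; exact Algebra.TensorProduct.productMap_right_apply _ _ a) rfl rfl
  let := ψ.toRingHom.toAlgebra
  have : Module.Flat _ (X'.presheaf.stalk x') := hflat
  have : IsScalarTower (Y'.presheaf.stalk (q x'))
      (Y'.presheaf.stalk (q x') ⊗[Y.presheaf.stalk (f (p x'))] X.presheaf.stalk (p x'))
      (X'.presheaf.stalk x') :=
    IsScalarTower.of_algebraMap_eq fun a => (Algebra.TensorProduct.productMap_left_apply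
      (IsScalarTower.toAlgHom _ (Y'.presheaf.stalk (q x')) (X'.presheaf.stalk x'))
      (IsScalarTower.toAlgHom _ (X.presheaf.stalk (p x')) (X'.presheaf.stalk x')) a).symm
  let := FlatMod.moduleStalkOver f F (p x')
  have : IsScalarTower (Y.presheaf.stalk (f (p x'))) (X.presheaf.stalk (p x')) (F.presheaf.stalk (p x')) :=
    IsScalarTower.of_algebraMap_smul fun _ _ => rfl
  have : Module.Flat (Y.presheaf.stalk (f (p x'))) (F.presheaf.stalk (p x')) := h
  have h1 := flat_of_flat_pushout (A := Y.presheaf.stalk (f (p x'))) (A' := Y'.presheaf.stalk (q x'))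
    (B := X.presheaf.stalk (p x')) (C := X'.presheaf.stalk x')
    (RingHom.ext fun b => Algebra.TensorProduct.productMap_right_apply _ _ b) (F.presheaf.stalk (p x'))
  let iM : Module (Y'.presheaf.stalk (q x')) (((Scheme.Modules.pullback p).obj F).presheaf.stalk x') :=
    FlatMod.moduleStalkOver q ((Scheme.Modules.pullback p).obj F) x'
  have : IsScalarTower (Y'.presheaf.stalk (q x')) (X'.presheaf.stalk x')
      (((Scheme.Modules.pullback p).obj F).presheaf.stalk x') :=
    IsScalarTower.of_algebraMap_smul fun _ _ => rfl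
  obtain ⟨e, -⟩ := Stalk.exists_stalk_equiv p F x'
  exact Module.Flat.of_linearEquiv (e.restrictScalars (Y'.presheaf.stalk (q x'))).symm

include sq in
/-- Flatness of a module over the base descends along a base change flat at the point. -/
theorem flatOverAt_of_baseChange (F : X.Modules) (hg : (g.stalkMap (q x')).hom.Flat)
    (h : FlatMod.IsFlatOverAt q ((Scheme.Modules.pullback p).obj F) x') :
    FlatMod.IsFlatOverAt f F (p x') := by
  have he : g (q x') = f (p x') := by rw [← Scheme.Hom.comp_apply, ← Scheme.Hom.comp_apply, sq.w]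
  let φ : Y.presheaf.stalk (f (p x')) ⟶ Y'.presheaf.stalk (q x') :=
    Y.presheaf.stalkSpecializes (specializes_of_eq he) ≫ g.stalkMap (q x')
  let : Algebra (Y.presheaf.stalk (f (p x'))) (X.presheaf.stalk (p x')) := (f.stalkMap (p x')).hom.toAlgebra
  let : Algebra (Y.presheaf.stalk (f (p x'))) (Y'.presheaf.stalk (q x')) := φ.hom.toAlgebra
  let : Algebra (X.presheaf.stalk (p x')) (X'.presheaf.stalk x') := (p.stalkMap x').hom.toAlgebra
  let : Algebra (Y'.presheaf.stalk (q x')) (X'.presheaf.stalk x') := (q.stalkMap x').hom.toAlgebra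
  let : Algebra (Y.presheaf.stalk (f (p x'))) (X'.presheaf.stalk x') :=
    (f.stalkMap (p x') ≫ p.stalkMap x').hom.toAlgebra
  have : IsScalarTower (Y.presheaf.stalk (f (p x'))) (X.presheaf.stalk (p x')) (X'.presheaf.stalk x') :=
    IsScalarTower.of_algebraMap_eq' rfl
  have : IsScalarTower (Y.presheaf.stalk (f (p x'))) (Y'.presheaf.stalk (q x')) (X'.presheaf.stalk x') := by
    refine IsScalarTower.of_algebraMap_eq' (congrArg CommRingCat.Hom.hom
      (?_ : f.stalkMap (p x') ≫ p.stalkMap x' = φ ≫ q.stalkMap x'))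
    rw [← Scheme.Hom.stalkMap_comp, Scheme.Hom.stalkMap_congr_hom _ _ sq.w x', Category.assoc,
      Scheme.Hom.stalkMap_comp]
    rfl
  let ψ : (Y'.presheaf.stalk (q x') ⊗[Y.presheaf.stalk (f (p x'))] X.presheaf.stalk (p x'))
      →ₐ[Y.presheaf.stalk (f (p x'))] X'.presheaf.stalk x' :=
    Algebra.TensorProduct.productMap (IsScalarTower.toAlgHom _ _ _) (IsScalarTower.toAlgHom _ _ _)
  have hflat : ψ.toRingHom.Flat := flat_stalk_of_isPullback sq x' (CommRingCat.ofHom ψ.toRingHom)
    (by ext a; exact Algebra.TensorProduct.productMap_left_apply _ _ a)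
    (by ext a; exact Algebra.TensorProduct.productMap_right_apply _ _ a) rfl rfl
  have hA' : Module.Flat (Y.presheaf.stalk (f (p x'))) (Y'.presheaf.stalk (q x')) :=
    ((RingHom.Flat.of_bijective (ConcreteCategory.bijective_of_isIso
      (Y.presheaf.stalkCongr (Inseparable.of_eq he.symm)).hom)).comp hg)
  -- `O_{x'}` is flat over `O_x`
  have hB : (p.stalkMap x').hom.Flat := by
    let : Algebra (X.presheaf.stalk (p x'))
        (Y'.presheaf.stalk (q x') ⊗[Y.presheaf.stalk (f (p x'))] X.presheaf.stalk (p x')) :=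
      Algebra.TensorProduct.rightAlgebra
    have h1 : Module.Flat (X.presheaf.stalk (p x'))
        (Y'.presheaf.stalk (q x') ⊗[Y.presheaf.stalk (f (p x'))] X.presheaf.stalk (p x')) :=
      Module.Flat.isBaseChange (R := Y.presheaf.stalk (f (p x'))) (S := X.presheaf.stalk (p x'))
        (M := Y'.presheaf.stalk (q x')) _
        (Algebra.IsPushout.symm inferInstance : Algebra.IsPushout (Y.presheaf.stalk (f (p x')))
          (X.presheaf.stalk (p x')) (Y'.presheaf.stalk (q x'))
          (Y'.presheaf.stalk (q x') ⊗[Y.presheaf.stalk (f (p x'))] X.presheaf.stalk (p x'))).out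
    have := RingHom.Flat.comp (f := algebraMap (X.presheaf.stalk (p x'))
        (Y'.presheaf.stalk (q x') ⊗[Y.presheaf.stalk (f (p x'))] X.presheaf.stalk (p x')))
      (RingHom.flat_algebraMap_iff.mpr h1) hflat
    convert this using 1
    ext b
    exact (Algebra.TensorProduct.productMap_right_apply
      (IsScalarTower.toAlgHom _ (Y'.presheaf.stalk (q x')) (X'.presheaf.stalk x'))
      (IsScalarTower.toAlgHom _ (X.presheaf.stalk (p x')) (X'.presheaf.stalk x')) b).symm
  have : Module.FaithfullyFlat (X.presheaf.stalk (p x')) (X'.presheaf.stalk x') :=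
    Stalk.faithfullyFlat_stalkMap p x' hB
  let := FlatMod.moduleStalkOver f F (p x')
  have : IsScalarTower (Y.presheaf.stalk (f (p x'))) (X.presheaf.stalk (p x')) (F.presheaf.stalk (p x')) :=
    IsScalarTower.of_algebraMap_smul fun _ _ => rfl
  let iM : Module (Y'.presheaf.stalk (q x')) (((Scheme.Modules.pullback p).obj F).presheaf.stalk x') :=
    FlatMod.moduleStalkOver q ((Scheme.Modules.pullback p).obj F) x'
  have : IsScalarTower (Y'.presheaf.stalk (q x')) (X'.presheaf.stalk x')
      (((Scheme.Modules.pullback p).obj F).presheaf.stalk x') :=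
    IsScalarTower.of_algebraMap_smul fun _ _ => rfl
  have : Module.Flat (Y'.presheaf.stalk (q x'))
      (((Scheme.Modules.pullback p).obj F).presheaf.stalk x') := h
  obtain ⟨e, -⟩ := Stalk.exists_stalk_equiv p F x'
  have h2 : Module.Flat (Y'.presheaf.stalk (q x'))
      (X'.presheaf.stalk x' ⊗[X.presheaf.stalk (p x')] F.presheaf.stalk (p x')) :=
    Module.Flat.of_linearEquiv (e.restrictScalars (Y'.presheaf.stalk (q x')))
  have : IsScalarTower (Y.presheaf.stalk (f (p x'))) (Y'.presheaf.stalk (q x'))
      (X'.presheaf.stalk x' ⊗[X.presheaf.stalk (p x')] F.presheaf.stalk (p x')) :=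
    IsScalarTower.of_algebraMap_smul fun a y => by
      induction y using TensorProduct.induction_on with
      | zero => simp
      | add u v hu hv => simp [smul_add, hu, hv]
      | tmul c m => rw [TensorProduct.smul_tmul', TensorProduct.smul_tmul', IsScalarTower.algebraMap_smul]
  have := Module.Flat.trans (Y.presheaf.stalk (f (p x'))) (Y'.presheaf.stalk (q x'))
      (X'.presheaf.stalk x' ⊗[X.presheaf.stalk (p x')] F.presheaf.stalk (p x'))
  exact Algebra.flat_of_faithfullyFlat_baseChange (B := X.presheaf.stalk (p x'))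
    (C := X'.presheaf.stalk x') (F.presheaf.stalk (p x'))

end Groth.Agent.FDesc.BaseChangeStalk
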