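import Groth.Agent.LimTop.Cons
import Mathlib.AlgebraicGeometry.Morphisms.Descent
import Mathlib.AlgebraicGeometry.Morphisms.LocalIso
import Mathlib.AlgebraicGeometry.Morphisms.QuasiSeparated
import Mathlib.AlgebraicGeometry.Properties

/-!
# The image of a pro-constructible set under a quasi-compact morphism is pro-constructible
-/

universe u

open CategoryTheory AlgebraicGeometry Topology TopologicalSpace

namespace Groth.Agent.FDesc.ProConsImage

/-- An open set of the constructible topology of a compact quasi-separated space is a union of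
constructible sets. -/
lemma exists_isConstructible_subset {T : Type*} [TopologicalSpace T] [CompactSpace T]
    [QuasiSeparatedSpace T] [PrespectralSpace T] {O : Set T} (hO : IsOpen[constructibleTopology T] O)
    {x : T} (hx : x ∈ O) : ∃ C : Set T, IsConstructible C ∧ x ∈ C ∧ C ⊆ O := by
  change TopologicalSpace.GenerateOpen (constructibleTopologySubbasis T) O at hO
  induction hO with
  | basic s hs =>
    refine ⟨s, ?_, hx, subset_rfl⟩
    rcases hs with ⟨ho, hc⟩ | ⟨hcl, hc⟩
    · exact hc.isConstructible ho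
    · simpa using (hc.isConstructible hcl.isOpen_compl).compl
  | univ => exact ⟨Set.univ, .univ, hx, subset_rfl⟩
  | inter s t _ _ ih₁ ih₂ =>
    obtain ⟨C₁, h₁, hx₁, hs₁⟩ := ih₁ hx.1
    obtain ⟨C₂, h₂, hx₂, hs₂⟩ := ih₂ hx.2
    exact ⟨C₁ ∩ C₂, h₁.inter h₂, ⟨hx₁, hx₂⟩, Set.inter_subset_inter hs₁ hs₂⟩
  | sUnion S _ ih =>
    obtain ⟨s, hs, hxs⟩ := hx
    obtain ⟨C, hC, hxC, hCs⟩ := ih s hs hxs
    exact ⟨C, hC, hxC, hCs.trans (Set.subset_sUnion_of_mem hs)⟩

/-- A set closed in the constructible topology on every affine open is pro-constructible. -/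
theorem isProConstructible_of_isClosed_cons {Y : Scheme.{u}} {E : Set Y}
    (h : ∀ U : Y.Opens, IsAffineOpen U →
      IsClosed[constructibleTopology U.toScheme] (U.ι ⁻¹' E)) :
    ProCons.IsProConstructible E := by
  intro y
  obtain ⟨U, hU, hyU, -⟩ := exists_isAffineOpen_mem_and_subset (Opens.mem_top y)
  have : IsAffine U.toScheme := hU
  refine ⟨U, U.2, hyU, {C : Set U.toScheme | IsConstructible C ∧ U.ι ⁻¹' E ⊆ C}, ?_, ?_⟩
  · exact fun C hC => hC.1.isLocallyConstructible
  · refine subset_antisymm (fun z hz => Set.mem_sInter.mpr fun C hC => hC.2 hz) fun z hz => ?_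
    by_contra hzE
    obtain ⟨C, hC, hzC, hCs⟩ := exists_isConstructible_subset (T := U.toScheme) (x := z)
      ((@isOpen_compl_iff _ _ (constructibleTopology _)).mpr (h U hU)) hzE
    exact Set.mem_sInter.mp hz Cᶜ ⟨hC.compl, fun w hw hwC => hCs hwC hw⟩ hzC

theorem isProConstructible_image {X Y : Scheme.{u}} (f : X ⟶ Y) [QuasiCompact f] {E : Set X}
    (hE : ProCons.IsProConstructible E) : ProCons.IsProConstructible (f.base '' E) := by
  refine isProConstructible_of_isClosed_cons fun U hU => ?_
  have : IsAffine U.toScheme := hU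
  have : CompactSpace (f ⁻¹ᵁ U).toScheme :=
    isCompact_iff_compactSpace.mp (f.isCompact_preimage hU.isCompact)
  have := (inferInstance :
    MorphismProperty.IsMultiplicative (@IsLocalIso : MorphismProperty Scheme.{u})).toContainsIdentities
  obtain ⟨W, p, hp, -, hW⟩ :=
    Scheme.exists_hom_isAffine_of_isZariskiLocalAtSource (@IsLocalIso : MorphismProperty Scheme.{u})
      (f ⁻¹ᵁ U).toScheme
  let q : W ⟶ U.toScheme := p ≫ f ∣_ U
  let g : W ⟶ X := p ≫ (f ⁻¹ᵁ U).ι
  have : QuasiCompact q := quasiCompact_iff_compactSpace q |>.mpr inferInstance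
  have hq : ∀ w, U.ι (q w) = f (g w) := fun w => morphismRestrict_base_coe f U (p w)
  have hset : U.ι ⁻¹' (f.base '' E) = q '' (g ⁻¹' E) := by
    ext z
    constructor
    · rintro ⟨e, he, hez⟩
      have heU : f e ∈ U := hez ▸ z.2
      obtain ⟨w, hw⟩ := p.surjective (⟨e, heU⟩ : (f ⁻¹ᵁ U).toScheme)
      have hge : g w = e := congrArg Subtype.val hw
      exact ⟨w, (show g w ∈ E from hge ▸ he), U.ι.isOpenEmbedding.injective (by rw [hq, hge]; exact hez)⟩
    · rintro ⟨w, hw, rfl⟩
      exact ⟨g w, hw, (hq w).symm⟩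
  have hcl : IsClosed (WithTopology.ofTopology ⁻¹' (g ⁻¹' E) : Set (WithConstructibleTopology W)) := by
    rw [WithTopology.isClosed_iff]
    exact LimTop.isClosed_cons_preimage g hE
  have hc := hcl.isCompact
  have him := (hc.image (LimTop.continuous_withCons q)).isClosed
  rw [WithTopology.isClosed_iff] at him
  rw [hset]
  convert him using 1
  ext z
  constructor
  · rintro ⟨w, hw, rfl⟩
    exact ⟨WithTopology.toTopology _ w, hw, rfl⟩
  · rintro ⟨w, hw, hwz⟩
    exact ⟨w.ofTopology, hw, congrArg WithTopology.ofTopology hwz⟩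

end Groth.Agent.FDesc.ProConsImage
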