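import Groth.Agent.PullStalk.Sky
import Groth.Agent.QCoh.FiniteType
import Groth.Agent.SchPoints.Basic
import Groth.Prelude.Def_FDesc
import Mathlib.AlgebraicGeometry.PullbackCarrier
import Mathlib.RingTheory.Flat.FaithfullyFlat.Basic
import Mathlib.RingTheory.Nakayama
import Mathlib.RingTheory.LocalRing.MaximalIdeal.Basic

/-!
# Quasi-flat morphisms are generalizing

`finite_stalk_of_isCoh`, `generalizingMap_of_isQuasiFlat`, and consequences of `GeneralizingMap`
for the closure of the image of a quasi-compact morphism.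
-/

universe u

open CategoryTheory AlgebraicGeometry TopologicalSpace Opposite
open scoped TensorProduct

namespace Groth.Agent.FDesc.QuasiFlat

open Groth.Agent.PullStalk.Sky

variable {X Y : Scheme.{u}}

/-- The stalk of a quasi-coherent module of finite type is finite over the local ring. -/
theorem finite_stalk_of_isCoh (M : X.Modules) (hM : Coh.IsCoh M) (x : X) :
    Module.Finite (X.presheaf.stalk x) (M.presheaf.stalk x) := by
  have := hM.1
  have := hM.2
  obtain ⟨U, hU, hxU, -⟩ := exists_isAffineOpen_mem_and_subset (Opens.mem_top x)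
  obtain ⟨s, hs⟩ := (QCoh.finite_sections_of_isFiniteType M hU).fg_top
  let S : Submodule (X.presheaf.stalk x) (M.presheaf.stalk x) :=
    Submodule.span _ ((fun m => germM M U x hxU m) '' (s : Set Γ(M, U)))
  have hU' : ∀ m : Γ(M, U), germM M U x hxU m ∈ S := by
    intro m
    have hm : m ∈ Submodule.span Γ(X, U) (s : Set Γ(M, U)) := hs ▸ Submodule.mem_top
    induction hm using Submodule.span_induction with
    | mem y hy => exact Submodule.subset_span ⟨y, hy, rfl⟩
    | zero =>
      change M.presheaf.germ U x hxU 0 ∈ S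
      simp only [map_zero, zero_mem]
    | add a b _ _ ha hb =>
      change M.presheaf.germ U x hxU (a + b) ∈ S
      simp only [map_add]
      exact S.add_mem ha hb
    | smul r a _ ha => exact (germM_smul M U x hxU r a).symm ▸ S.smul_mem _ ha
  refine ⟨⟨(s.finite_toSet.image (fun m => germM M U x hxU m)).toFinset, ?_⟩⟩
  rw [Set.Finite.coe_toFinset, eq_top_iff]
  intro t _
  change t ∈ S
  obtain ⟨W, hxW, m, rfl⟩ := exists_germM_eq M x t
  obtain ⟨g, hgle, hxg⟩ := hU.exists_basicOpen_le ⟨x, hxW⟩ hxU
  obtain ⟨n, m', hm'⟩ := (QCoh.isLocalizingAt M hU g).surj (QCoh.res M hgle m)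
  have h1 : germM M U x hxU m' =
      X.presheaf.germ (X.basicOpen g) x hxg (QCoh.rres (X.basicOpen_le g) g) ^ n •
        germM M W x hxW m := by
    have e1 : germM M (X.basicOpen g) x hxg (QCoh.res M (X.basicOpen_le g) m') = germM M U x hxU m' :=
      M.presheaf.germ_res_apply _ x hxg m'
    have e2 : germM M (X.basicOpen g) x hxg (QCoh.res M hgle m) = germM M W x hxW m :=
      M.presheaf.germ_res_apply _ x hxg m
    rw [← e1, ← e2, hm', germM_smul, map_pow]
  have hu : IsUnit (X.presheaf.germ (X.basicOpen g) x hxg (QCoh.rres (X.basicOpen_le g) g)) := by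
    rw [X.presheaf.germ_res_apply]
    exact (X.mem_basicOpen g x hxU).mp hxg
  obtain ⟨v, hv⟩ := hu.pow n
  have : germM M W x hxW m = (↑v⁻¹ : X.presheaf.stalk x) • germM M U x hxU m' := by
    rw [h1, ← hv, smul_smul, v.inv_mul, one_smul]
  rw [this]
  exact S.smul_mem _ (hU' m')

/-- Going down for a nonzero finite module flat over the base. -/
theorem exists_prime_comap_eq {A B : Type u} [CommRing A] [CommRing B] [IsLocalRing A] [IsLocalRing B]
    [Algebra A B] [IsLocalHom (algebraMap A B)]
    (N : Type u) [AddCommGroup N] [Module A N] [Module B N] [IsScalarTower A B N]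
    [Module.Finite B N] [Module.Flat A N] [Nontrivial N] (p : Ideal A) [p.IsPrime] :
    ∃ q : Ideal B, q.IsPrime ∧ q.comap (algebraMap A B) = p := by
  have hff : Module.FaithfullyFlat A N := by
    refine ⟨fun {m} hm htop => ?_⟩
    obtain rfl := IsLocalRing.eq_maximalIdeal hm
    have hB : (⊤ : Submodule B N) ≤ IsLocalRing.maximalIdeal B • (⊤ : Submodule B N) := by
      intro n _
      have hn : n ∈ IsLocalRing.maximalIdeal A • (⊤ : Submodule A N) := htop.symm ▸ Submodule.mem_top
      refine Submodule.smul_induction_on hn (fun a ha y _ => ?_) fun a b ha hb => Submodule.add_mem _ ha hb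
      rw [← algebraMap_smul B a y]
      exact Submodule.smul_mem_smul (map_nonunit (algebraMap A B) a ha) trivial
    exact top_ne_bot (α := Submodule B N)
      (Submodule.eq_bot_of_le_smul_of_le_jacobson_bot (IsLocalRing.maximalIdeal B) ⊤
        Module.Finite.fg_top hB (IsLocalRing.maximalIdeal_le_jacobson _))
  have : Nontrivial (N ⊗[A] p.ResidueField) := Module.FaithfullyFlat.lTensor_nontrivial A N _
  obtain ⟨z, hz⟩ := exists_ne (0 : N ⊗[A] p.ResidueField)
  let I : Ideal B := LinearMap.ker (LinearMap.toSpanSingleton B (N ⊗[A] p.ResidueField) z)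
  have hI : ∀ b, b ∈ I ↔ b • z = 0 := fun b => by simp [I]
  have hsmul : ∀ a : A, algebraMap A B a • z = a • z := fun a => algebraMap_smul B a z
  let L : p.ResidueField → (p.ResidueField →ₗ[A] p.ResidueField) := fun k =>
    (LinearMap.lsmul p.ResidueField p.ResidueField k).restrictScalars A
  have hres : ∀ (a : A) (y : N ⊗[A] p.ResidueField),
      a • y = (L (algebraMap A p.ResidueField a)).lTensor N y := by
    intro a y
    induction y using TensorProduct.induction_on with
    | zero => simp
    | add u v hu hv => simp [smul_add, hu, hv]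
    | tmul n k =>
      rw [← TensorProduct.tmul_smul, LinearMap.lTensor_tmul, Algebra.smul_def]
      rfl
  have hp : p.map (algebraMap A B) ≤ I := by
    rw [Ideal.map_le_iff_le_comap]
    intro a ha
    rw [Ideal.mem_comap, hI, hsmul, hres, Ideal.algebraMap_residueField_eq_zero.mpr ha]
    simp [L]
  have hdisj : Disjoint (I : Set B) (p.primeCompl.map (algebraMap A B) : Submonoid B) := by
    rw [Set.disjoint_left]
    rintro _ hb ⟨a, ha, rfl⟩
    rw [SetLike.mem_coe, hI, hsmul] at hb
    apply hz
    have hne : algebraMap A p.ResidueField a ≠ 0 := fun h => ha (Ideal.algebraMap_residueField_eq_zero.mp h)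
    have key : (L (algebraMap A p.ResidueField a)⁻¹).lTensor N (a • z) = z := by
      rw [hres, ← LinearMap.comp_apply, ← LinearMap.lTensor_comp]
      convert LinearMap.lTensor_id_apply N p.ResidueField z using 2
      congr 1
      ext
      simp [L, ← mul_assoc, inv_mul_cancel₀ hne]
    rw [← key, hb, map_zero]
  obtain ⟨q, hq, hIq, hdis⟩ := Ideal.exists_le_prime_disjoint I _ hdisj
  refine ⟨q, hq, le_antisymm (fun a ha => ?_) (Ideal.map_le_iff_le_comap.mp (hp.trans hIq))⟩
  by_contra hap
  exact Set.disjoint_left.mp hdis ha ⟨a, hap, rfl⟩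

/-- Quasi-flat morphisms are generalizing. -/
theorem generalizingMap_of_isQuasiFlat (f : X ⟶ Y) (hf : FDesc.IsQuasiFlat f) :
    GeneralizingMap f.base := by
  obtain ⟨M, hM, hfl, hne⟩ := hf
  intro x y hy
  obtain ⟨p, rfl⟩ : y ∈ Set.range (Y.fromSpecStalk (f x)) := by
    rw [Scheme.range_fromSpecStalk]; exact hy
  algebraize [(f.stalkMap x).hom]
  let := FlatMod.moduleStalkOver f M x
  have : IsScalarTower (Y.presheaf.stalk (f x)) (X.presheaf.stalk x) (M.presheaf.stalk x) :=
    IsScalarTower.of_algebraMap_smul fun _ _ => rfl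
  have : Module.Flat (Y.presheaf.stalk (f x)) (M.presheaf.stalk x) := hfl x
  have := finite_stalk_of_isCoh M hM x
  have := hne x
  have : IsLocalHom (algebraMap (Y.presheaf.stalk (f x)) (X.presheaf.stalk x)) := f.toLRSHom.prop x
  obtain ⟨q, hq, hqp⟩ := exists_prime_comap_eq (B := X.presheaf.stalk x) (M.presheaf.stalk x) p.asIdeal
  refine ⟨X.fromSpecStalk x ⟨q, hq⟩, ?_, ?_⟩
  · have : X.fromSpecStalk x ⟨q, hq⟩ ∈ Set.range (X.fromSpecStalk x) := ⟨_, rfl⟩
    rwa [Scheme.range_fromSpecStalk] at this
  · change (X.fromSpecStalk x ≫ f) ⟨q, hq⟩ = _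
    rw [← Scheme.SpecMap_stalkMap_fromSpecStalk f, Scheme.Hom.comp_apply]
    exact congrArg (Y.fromSpecStalk (f x)) (PrimeSpectrum.ext hqp)

/-- For generalizing `f`, the preimage of the closure of the image of a quasi-compact morphism is the
closure of the preimage. -/
theorem preimage_closure_range {Y' : Scheme.{u}} (f : X ⟶ Y) (hf : GeneralizingMap f.base)
    (g : Y' ⟶ Y) [QuasiCompact g] :
    f.base ⁻¹' closure (Set.range g.base) = closure (f.base ⁻¹' Set.range g.base) := by
  refine subset_antisymm (fun x hx => ?_) (f.continuous.closure_preimage_subset _)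
  obtain ⟨y', hy'⟩ := SchPoints.exists_specializes_of_mem_closure_range g hx
  obtain ⟨x', hx', hfx'⟩ := hf hy'
  exact hx'.mem_closed isClosed_closure (subset_closure ⟨y', hfx'.symm⟩)

end Groth.Agent.FDesc.QuasiFlat
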