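import Groth.Agent.FDesc.GenericClosure
import Groth.Agent.FDesc.Stalk
import Groth.Agent.FlatMor.FibreStalk
import Groth.Agent.Omega.Stalks
import Groth.Agent.Props.QStalk
import Groth.Agent.QCoh.Exact
import Groth.Agent.QCoh.Qcqs

/-!
# Flat quotients with given generic fibre
-/

universe u

open CategoryTheory CategoryTheory.Limits AlgebraicGeometry

noncomputable section

namespace Groth.Agent.FDesc.GenericQuot

open Groth.Agent.PullStalk.Sky Groth.Agent.PullStalk.Basic Groth.Agent.PullStalk.Exact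

variable {X Y : Scheme.{u}}

/-- Push a stalk of a direct image to the stalk. -/
def pushStalk {W : Scheme.{u}} (ι : W ⟶ X) (G : W.Modules) (w : W) :
    ((Scheme.Modules.pushforward ι).obj G).presheaf.stalk (ι w) ⟶ G.presheaf.stalk w :=
  TopCat.Presheaf.stalkPushforward Ab ι.base G.presheaf w

theorem pushStalk_germ {W : Scheme.{u}} (ι : W ⟶ X) (G : W.Modules) (w : W) (U : X.Opens)
    (hw : ι w ∈ U) (m : Γ((Scheme.Modules.pushforward ι).obj G, U)) :
    pushStalk ι G w (germM _ U (ι w) hw m) = germM G (ι ⁻¹ᵁ U) w hw m :=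
  ConcreteCategory.congr_hom (TopCat.Presheaf.stalkPushforward_germ Ab ι.base G.presheaf U w hw) m

theorem pushStalk_bijective {W : Scheme.{u}} (ι : W ⟶ X) (hι : Topology.IsInducing ι.base)
    (G : W.Modules) (w : W) : Function.Bijective (pushStalk ι G w) :=
  have : IsIso (pushStalk ι G w) :=
    TopCat.Presheaf.stalkPushforward.stalkPushforward_iso_of_isInducing Ab hι G.presheaf w
  ConcreteCategory.bijective_of_isIso _

theorem adj_stalk {W : Scheme.{u}} (ι : W ⟶ X) {M : X.Modules} {G : W.Modules}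
    (e : (Scheme.Modules.pullback ι).obj M ⟶ G) (w : W) (t : M.presheaf.stalk (ι w)) :
    pushStalk ι G w (stalkLin ((Scheme.Modules.pullbackPushforwardAdjunction ι).homEquiv M G e) (ι w) t) =
      stalkLin e w (unitStalkHom ι M w t) := by
  obtain ⟨U, hx, m, rfl⟩ := exists_germM_eq M (ι w) t
  rw [stalkLin_germ, pushStalk_germ, unitStalkHom_germ, stalkLin_germ, Adjunction.homEquiv_unit]
  rfl

theorem unitStalkHom_bijective {W : Scheme.{u}} (ι : W ⟶ X) (M : X.Modules) (w : W)
    (h : Function.Bijective (ι.stalkMap w).hom) : Function.Bijective (unitStalkHom ι M w) := by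
  refine ⟨Stalk.unitStalkHom_injective ι M w (RingHom.Flat.of_bijective h), fun z => ?_⟩
  let := (ι.stalkMap w).hom.toAlgebra
  obtain ⟨e, he⟩ := Stalk.exists_stalk_equiv ι M w
  obtain ⟨z, rfl⟩ := e.surjective z
  induction z using TensorProduct.induction_on with
  | zero => exact ⟨0, by rw [map_zero, map_zero]⟩
  | add a b ha hb =>
    obtain ⟨a', ha'⟩ := ha
    obtain ⟨b', hb'⟩ := hb
    exact ⟨a' + b', by rw [map_add, map_add, ha', hb']⟩
  | tmul c m =>
    obtain ⟨a, rfl⟩ := h.2 c
    exact ⟨a • m, by rw [unitStalkHom_smul, he]⟩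

variable [IsIntegral Y] (f : X ⟶ Y)

theorem f_fiberι (w : f.fiber (genericPoint Y)) :
    f (f.fiberι (genericPoint Y) w) = genericPoint Y := by
  have : f.fiberι (genericPoint Y) w ∈ Set.range (f.fiberι (genericPoint Y)) := ⟨w, rfl⟩
  rwa [f.range_fiberι] at this

theorem stalkMap_bijective (w : f.fiber (genericPoint Y)) :
    Function.Bijective ((f.fiberι (genericPoint Y)).stalkMap w).hom := by
  refine ⟨?_, (f.fiberι (genericPoint Y)).stalkMap_surjective w⟩
  rw [RingHom.injective_iff_ker_eq_bot, FlatMor.FibreStalk.ker_stalkMap_fiberι f _ w]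
  have h : IsField (Y.presheaf.stalk (f (f.fiberι (genericPoint Y) w))) := by
    rw [f_fiberι f w]
    exact Field.toIsField Y.functionField
  rw [IsLocalRing.isField_iff_maximalIdeal_eq.mp h, Ideal.map_bot]

theorem quasiCompact_fiberι : QuasiCompact (f.fiberι (genericPoint Y)) :=
  MorphismProperty.pullback_fst (P := @QuasiCompact) _ _
    (GenericClosure.quasiCompact_fromSpecResidueField (genericPoint Y))

/-- Multiplication by a nonzero germ of the base is injective on stalks of a direct image from the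
generic fibre. -/
theorem smul_pushforward_injective (G : (f.fiber (genericPoint Y)).Modules) (x : X)
    (r : Y.presheaf.stalk (f x)) (hr : r ≠ 0)
    (t : ((Scheme.Modules.pushforward (f.fiberι (genericPoint Y))).obj G).presheaf.stalk x)
    (h : (f.stalkMap x).hom r • t = 0) : t = 0 := by
  let ι := f.fiberι (genericPoint Y)
  let P := (Scheme.Modules.pushforward ι).obj G
  obtain ⟨U, hxU, m, rfl⟩ := exists_germM_eq P x t
  obtain ⟨V, hxV, c, rfl⟩ := Y.presheaf.exists_germ_eq (x := f x) r
  have hc : c ≠ 0 := fun hc => hr (by rw [hc, map_zero])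
  have : Nonempty V := ⟨⟨_, hxV⟩⟩
  let W := U ⊓ f ⁻¹ᵁ V
  have hxW : x ∈ W := ⟨hxU, hxV⟩
  let m' := P.presheaf.map (homOfLE (inf_le_left : W ≤ U)).op m
  let c' := (f.appLE V W inf_le_right).hom c
  have hm : germM P U x hxU m = germM P W x hxW m' := (P.presheaf.germ_res_apply _ x hxW m).symm
  have hcx : (f.stalkMap x).hom (Y.presheaf.germ V (f x) hxV c) = X.presheaf.germ W x hxW c' := by
    change f.stalkMap x (Y.presheaf.germ V (f x) hxV c) = _
    rw [Scheme.Hom.germ_stalkMap_apply]
    exact (X.presheaf.germ_res_apply _ x hxW _).symm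
  rw [hm] at h ⊢
  rw [hcx, ← germM_smul] at h
  obtain ⟨W', hxW', i, _, hW'⟩ := P.presheaf.germ_eq x hxW hxW (c' • m') 0 (h.trans (map_zero _).symm)
  have hu : IsUnit ((ι.app W').hom (X.presheaf.map i.op c')) := by
    refine (f.fiber (genericPoint Y)).toRingedSpace.isUnit_of_isUnit_germ _ _ fun w hw => ?_
    refine ((f.fiber (genericPoint Y)).mem_basicOpen _ w hw).mp ?_
    rw [← Scheme.preimage_basicOpen]
    change ι w ∈ X.basicOpen _
    rw [Scheme.basicOpen_res, Scheme.basicOpen_appLE]
    refine ⟨hw, i.le hw, ?_⟩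
    change f (ι w) ∈ Y.basicOpen c
    rw [f_fiberι f w, Scheme.mem_basicOpen _ _ _
      (((genericPoint_spec Y).mem_open_set_iff V.2).mpr (by simpa using ‹Nonempty V›))]
    exact IsUnit.mk0 _ fun h => hc ((map_eq_zero_iff _ (Y.germToFunctionField_injective V)).mp h)
  let m'' : Γ(G, ι ⁻¹ᵁ W') := P.presheaf.map i.op m'
  have h0 : (ι.app W').hom (X.presheaf.map i.op c') • m'' = 0 := by
    refine ((P.map_smul i c' m').symm.trans (hW'.trans (map_zero _)) :)
  have h1 : P.presheaf.map i.op m' = 0 := (hu.smul_eq_zero.mp h0 : m'' = 0)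
  rw [show germM P W x hxW m' = germM P W' x hxW' (P.presheaf.map i.op m') from
    (P.presheaf.germ_res_apply i x hxW' m').symm, h1]
  exact map_zero (P.presheaf.germ W' x hxW').hom

/-- A submodule of a direct image from the generic fibre is flat over the base. -/
theorem isFlatOver_of_mono [IsLocallyNoetherian Y]
    (hY : ∀ y : Y, IsRegularLocalRing (Y.presheaf.stalk y) ∧ ringKrullDim (Y.presheaf.stalk y) ≤ 1)
    {G : X.Modules} {G' : (f.fiber (genericPoint Y)).Modules}
    (m : G ⟶ (Scheme.Modules.pushforward (f.fiberι (genericPoint Y))).obj G') [Mono m] :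
    FlatMod.IsFlatOver f G := by
  intro x
  let := FlatMod.moduleStalkOver f G x
  change Module.Flat (Y.presheaf.stalk (f x)) (G.presheaf.stalk x)
  obtain ⟨hreg, hdim⟩ := hY (f x)
  have : IsDomain (Y.presheaf.stalk (f x)) := inferInstance
  have : IsPrincipalIdealRing (Y.presheaf.stalk (f x)) := by
    by_cases h0 : IsField (Y.presheaf.stalk (f x))
    · let := h0.toField
      infer_instance
    · have h1 : ringKrullDim (Y.presheaf.stalk (f x)) = 1 := by
        refine le_antisymm hdim ?_
        rw [← IsLocalRing.maximalIdeal_height_eq_ringKrullDim]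
        refine WithBot.coe_le_coe.mpr (Order.one_le_iff_pos.mpr (pos_iff_ne_zero.mpr ?_))
        rw [Ne, Ideal.height_eq_zero_iff_eq_bot]
        exact fun h => h0 (IsLocalRing.isField_iff_maximalIdeal_eq.mpr h)
      obtain ⟨_, _⟩ := (RegLoc.Completion.exists_isDiscreteValuationRing_iff _).mpr ⟨hreg, h1⟩
      infer_instance
  rw [IsDedekindDomain.flat_iff_torsion_eq_bot, Submodule.eq_bot_iff]
  intro s hs
  obtain ⟨⟨r, hr⟩, hrs⟩ := hs
  apply Omega.Stalks.stalkLin_injective_of_mono m x
  rw [map_zero]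
  refine smul_pushforward_injective f G' x r (nonZeroDivisors.ne_zero hr) _ ?_
  rw [← map_smul, show (f.stalkMap x).hom r • s = 0 from hrs, map_zero]

/-- Specialization of stalks is injective up to an element outside the prime. -/
theorem exists_smul_eq_zero (M : X.Modules) [M.IsQuasicoherent] (x : X)
    (q : PrimeSpectrum (X.presheaf.stalk x)) (h : X.fromSpecStalk x q ⤳ x) (t : M.presheaf.stalk x)
    (ht : M.presheaf.stalkSpecializes h t = 0) : ∃ c ∉ q.asIdeal, c • t = 0 := by
  obtain ⟨U, hU, hxU, -⟩ := exists_isAffineOpen_mem_and_subset (TopologicalSpace.Opens.mem_top x)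
  let z := X.fromSpecStalk x q
  have hzU : z ∈ U := h.mem_open U.2 hxU
  let := Props.QStalk.moduleSections M hzU
  have hlz := Props.QStalk.isLocalizedModule_germLin M hzU hU
  let := Props.QStalk.moduleSections M hxU
  have hlx := Props.QStalk.isLocalizedModule_germLin M hxU hU
  obtain ⟨⟨m, a⟩, ha⟩ := IsLocalizedModule.surj (hU.primeIdealOf ⟨x, hxU⟩).asIdeal.primeCompl
    (Props.QStalk.germLin M hxU) t
  have ha' : X.presheaf.germ U x hxU a • t = germM M U x hxU m := ha
  have hsp : ∀ (b : Γ(M, U)), M.presheaf.stalkSpecializes h (germM M U x hxU b) = germM M U z hzU b :=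
    fun b => TopCat.Presheaf.germ_stalkSpecializes_apply M.presheaf hxU h b
  have hz0 : germM M U z hzU m = 0 := by
    rw [← hsp, ← ha']
    obtain ⟨W, hxW, m1, rfl⟩ := exists_germM_eq M x t
    have hW : x ∈ U ⊓ W := ⟨hxU, hxW⟩
    rw [← X.presheaf.germ_res_apply (homOfLE (inf_le_left : U ⊓ W ≤ U)) x hW,
      show germM M W x hxW m1 = germM M (U ⊓ W) x hW (M.presheaf.map (homOfLE (inf_le_right : U ⊓ W ≤ W)).op m1)
        from (M.presheaf.germ_res_apply _ x hW m1).symm, ← germM_smul]
    rw [show germM M W x hxW m1 = germM M (U ⊓ W) x hW (M.presheaf.map (homOfLE (inf_le_right : U ⊓ W ≤ W)).op m1)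
        from (M.presheaf.germ_res_apply _ x hW m1).symm] at ht
    erw [TopCat.Presheaf.germ_stalkSpecializes_apply M.presheaf hW h] at ht ⊢
    refine (germM_smul M _ z (h.mem_open (U ⊓ W).2 hW) _ _).trans ?_
    exact (congrArg (_ • ·) ht).trans (smul_zero _)
  obtain ⟨⟨r, hr⟩, hrm⟩ := (IsLocalizedModule.eq_zero_iff (hU.primeIdealOf ⟨z, hzU⟩).asIdeal.primeCompl
    (Props.QStalk.germLin M hzU)).mp hz0
  have hprime : hU.primeIdealOf ⟨z, hzU⟩ = Spec.map (X.presheaf.germ U x hxU) q := by
    apply hU.fromSpec.isOpenEmbedding.injective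
    rw [hU.fromSpec_primeIdealOf]
    change X.fromSpecStalk x q = _
    rw [← hU.fromSpecStalk_eq_fromSpecStalk hxU]
    rfl
  refine ⟨X.presheaf.germ U x hxU r, fun hc => hr (by rw [hprime]; exact hc), ?_⟩
  have hu := IsLocalizedModule.map_units (Props.QStalk.germLin M hxU) a
  apply ((Module.End.isUnit_iff _).mp hu).1
  change X.presheaf.germ U x hxU a • (X.presheaf.germ U x hxU r • t) =
    X.presheaf.germ U x hxU a • (0 : M.presheaf.stalk x)
  rw [smul_comm, ha', ← germM_smul, show r • m = 0 from hrm, smul_zero]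
  exact map_zero (M.presheaf.germ U x hxU).hom

/-- Kernels of flat quotients are determined on the generic fibre. -/
theorem comp_eq_zero {F G₁ G₂ K : X.Modules} {G' : (f.fiber (genericPoint Y)).Modules}
    (ρ₁ : F ⟶ G₁) (ρ₂ : F ⟶ G₂) (k : K ⟶ F) (hk : k ≫ ρ₁ = 0)
    [G₂.IsQuasicoherent] (hfl : FlatMod.IsFlatOver f G₂)
    (e₁ : (Scheme.Modules.pullback (f.fiberι (genericPoint Y))).obj G₁ ≅ G')
    (e₂ : (Scheme.Modules.pullback (f.fiberι (genericPoint Y))).obj G₂ ≅ G')
    (he : (Scheme.Modules.pullback (f.fiberι (genericPoint Y))).map ρ₁ ≫ e₁.hom =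
      (Scheme.Modules.pullback (f.fiberι (genericPoint Y))).map ρ₂ ≫ e₂.hom) :
    k ≫ ρ₂ = 0 := by
  refine Omega.Stalks.hom_ext_stalk fun x => LinearMap.ext fun t => ?_
  rw [Omega.Stalks.stalkLin_comp, Omega.Stalks.stalkLin_zero]
  let s := stalkLin k x t
  have hs : stalkLin ρ₁ x s = 0 := by
    rw [← Omega.Stalks.stalkLin_comp, hk, Omega.Stalks.stalkLin_zero]
  let v := stalkLin ρ₂ x s
  change v = 0
  let := FlatMod.moduleStalkOver f G₂ x
  have : Module.Flat (Y.presheaf.stalk (f x)) (G₂.presheaf.stalk x) := hfl x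
  let I : Ideal (X.presheaf.stalk x) := LinearMap.ker (LinearMap.toSpanSingleton (X.presheaf.stalk x) _ v)
  have hI : ∀ c, c ∈ I ↔ c • v = 0 := fun c => by simp [I]
  have : IsDomain (Y.presheaf.stalk (f x)) := inferInstance
  by_contra hv
  have hdisj : Disjoint (I : Set (X.presheaf.stalk x))
      ((nonZeroDivisors (Y.presheaf.stalk (f x))).map (f.stalkMap x).hom : Submonoid (X.presheaf.stalk x)) := by
    rw [Set.disjoint_left]
    rintro _ hc ⟨r, hr, rfl⟩
    rw [SetLike.mem_coe, hI] at hc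
    exact hv (Module.Flat.isSMulRegular_of_nonZeroDivisors (M := G₂.presheaf.stalk x) hr
      ((show r • v = 0 from hc).trans (smul_zero r).symm))
  obtain ⟨q, hq, hIq, hdis⟩ := Ideal.exists_le_prime_disjoint I _ hdisj
  let z := X.fromSpecStalk x ⟨q, hq⟩
  have hzx : z ⤳ x := by
    have : z ∈ Set.range (X.fromSpecStalk x) := ⟨_, rfl⟩
    rwa [Scheme.range_fromSpecStalk] at this
  have hz : f z = genericPoint Y := by
    have hbot : q.comap (f.stalkMap x).hom = ⊥ := by
      rw [eq_bot_iff]
      intro r hr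
      by_contra hr0
      exact Set.disjoint_left.mp hdis hr ⟨r, mem_nonZeroDivisors_of_ne_zero hr0, rfl⟩
    have e1 : f z = Y.fromSpecStalk (f x) ⟨⊥, Ideal.isPrime_bot⟩ := by
      change (X.fromSpecStalk x ≫ f) ⟨q, hq⟩ = _
      rw [← Scheme.SpecMap_stalkMap_fromSpecStalk f, Scheme.Hom.comp_apply]
      exact congrArg (Y.fromSpecStalk (f x)) (PrimeSpectrum.ext hbot)
    rw [e1]
    obtain ⟨p, hp⟩ : genericPoint Y ∈ Set.range (Y.fromSpecStalk (f x)) := by
      rw [Scheme.range_fromSpecStalk]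
      exact genericPoint_specializes _
    refine (Specializes.antisymm ?_ (genericPoint_specializes _)).eq
    rw [← hp]
    exact ((PrimeSpectrum.le_iff_specializes _ p).mp bot_le).map (Y.fromSpecStalk (f x)).continuous
  obtain ⟨w, hw⟩ : z ∈ Set.range (f.fiberι (genericPoint Y)) := by rw [f.range_fiberι]; exact hz
  have hnat : ∀ {G : X.Modules} (ρ : F ⟶ G),
      G.presheaf.stalkSpecializes hzx (stalkLin ρ x s) =
        stalkLin ρ z (F.presheaf.stalkSpecializes hzx s) := fun {G} ρ =>
    (ConcreteCategory.congr_hom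
      (TopCat.Presheaf.stalkSpecializes_stalkFunctor_map (f := ρ.mapPresheaf) hzx) s).symm
  have key : ∀ s' : F.presheaf.stalk z, stalkLin ρ₁ z s' = 0 → stalkLin ρ₂ z s' = 0 := by
    rw [← hw]
    intro s' h1
    have n₁ := Stalk.unitStalkHom_natural (f.fiberι (genericPoint Y)) ρ₁ w s'
    have n₂ := Stalk.unitStalkHom_natural (f.fiberι (genericPoint Y)) ρ₂ w s'
    apply (unitStalkHom_bijective (f.fiberι (genericPoint Y)) G₂ w (stalkMap_bijective f w)).1
    rw [map_zero]
    apply Omega.Stalks.stalkLin_injective_of_mono e₂.hom w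
    rw [map_zero]
    have h2 : stalkLin e₁.hom w (unitStalkHom (f.fiberι (genericPoint Y)) G₁ w (stalkLin ρ₁ _ s')) = 0 := by
      rw [h1, map_zero, map_zero]
    have a1 : stalkLin ((Scheme.Modules.pullback (f.fiberι (genericPoint Y))).map ρ₁ ≫ e₁.hom) w
        (unitStalkHom (f.fiberι (genericPoint Y)) F w s') = 0 := by
      rw [Omega.Stalks.stalkLin_comp]
      exact (congrArg _ n₁.symm).trans h2
    rw [he, Omega.Stalks.stalkLin_comp] at a1
    exact (congrArg _ n₂).trans a1
  have hz0 : G₂.presheaf.stalkSpecializes hzx v = 0 := by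
    rw [hnat]
    exact key _ (by rw [← hnat, hs, map_zero])
  obtain ⟨c, hc, hcv⟩ := exists_smul_eq_zero G₂ x ⟨q, hq⟩ hzx v hz0
  exact hc (hIq ((hI c).mpr hcv))

end Groth.Agent.FDesc.GenericQuot
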