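import Groth.Agent.FDesc.BaseChangeStalk
import Groth.Agent.RegLoc.Completion
import Groth.Agent.AlgSp.KerFlat
import Mathlib.AlgebraicGeometry.Fiber
import Mathlib.AlgebraicGeometry.FunctionField
import Mathlib.RingTheory.DedekindDomain.Dvr
import Mathlib.RingTheory.Flat.TorsionFree

/-!
# Schematic closures of generic fibres over a base regular of dimension at most one
-/

universe u

open CategoryTheory CategoryTheory.Limits AlgebraicGeometry

namespace Groth.Agent.FDesc.GenericClosure

variable {X Y Z Z' : Scheme.{u}} [IsIntegral Y]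

theorem flat_fromSpecResidueField_genericPoint : Flat (Y.fromSpecResidueField (genericPoint Y)) := by
  have := BaseChangeStalk.flat_fromSpecStalk (genericPoint Y)
  have hbij : Function.Bijective (Y.residue (genericPoint Y)).hom := by
    refine ⟨?_, Y.residue_surjective _⟩
    exact (Y.residue (genericPoint Y)).hom.injective
  have : IsIso (Y.residue (genericPoint Y)) :=
    (ConcreteCategory.isIso_iff_bijective _).mpr hbij
  change Flat (Spec.map (Y.residue (genericPoint Y)) ≫ Y.fromSpecStalk (genericPoint Y))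
  infer_instance

theorem quasiCompact_fromSpecResidueField (y : Y) : QuasiCompact (Y.fromSpecResidueField y) := by
  refine ⟨fun U _ _ => ?_⟩
  have : Subsingleton (Spec (Y.residueField y)) := inferInstanceAs (Subsingleton (PrimeSpectrum _))
  exact (Set.subsingleton_of_subsingleton (s := _)).isCompact

theorem isSchemeTheoreticallyDominant_generic :
    IsSchemeTheoreticallyDominant (Y.fromSpecResidueField (genericPoint Y)) := by
  have : IsDominant (Y.fromSpecResidueField (genericPoint Y)) := ⟨by
    rw [DenseRange, Scheme.range_fromSpecResidueField, dense_iff_closure_eq]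
    exact genericPoint_closure _⟩
  exact IsSchemeTheoreticallyDominant.of_isDominant _

/-- A closed subscheme flat over the base is the closure of its generic fibre. -/
theorem ker_eq_of_flat (f : X ⟶ Y) (z' : Z' ⟶ f.fiber (genericPoint Y)) (z : Z ⟶ X) [Flat (z ≫ f)]
    (w : Z' ⟶ Z) (sq : IsPullback w z' z (f.fiberι (genericPoint Y))) :
    z.ker = (z' ≫ f.fiberι (genericPoint Y)).ker := by
  have := quasiCompact_fromSpecResidueField (genericPoint Y)
  have := isSchemeTheoreticallyDominant_generic (Y := Y)
  have h : IsPullback w (z' ≫ f.fiberToSpecResidueField (genericPoint Y)) (z ≫ f)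
      (Y.fromSpecResidueField (genericPoint Y)) := sq.paste_vert (IsPullback.of_hasPullback _ _)
  have hd : IsSchemeTheoreticallyDominant w := IsSchemeTheoreticallyDominant.of_isPullback h.flip
  rw [← sq.w, Scheme.Hom.ker_comp, hd.ker_eq_bot, Scheme.IdealSheafData.map_bot]

theorem isDedekindDomain_sections [IsLocallyNoetherian Y]
    (hY : ∀ y : Y, IsRegularLocalRing (Y.presheaf.stalk y) ∧ ringKrullDim (Y.presheaf.stalk y) ≤ 1)
    {V : Y.Opens} (hV : IsAffineOpen V) [Nonempty V] :
    IsDedekindDomain Γ(Y, V) := by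
  have : IsNoetherianRing Γ(Y, V) := IsLocallyNoetherian.component_noetherian ⟨V, hV⟩
  have : IsDedekindDomainDvr Γ(Y, V) := ⟨fun P hP hPp => by
    let y : V := ⟨hV.fromSpec ⟨P, hPp⟩, by
      have : hV.fromSpec ⟨P, hPp⟩ ∈ Set.range hV.fromSpec := ⟨_, rfl⟩
      rwa [hV.range_fromSpec] at this⟩
    have hpy : hV.primeIdealOf y = ⟨P, hPp⟩ := by
      apply hV.fromSpec.isOpenEmbedding.injective
      rw [hV.fromSpec_primeIdealOf]
    let := Y.presheaf.algebra_section_stalk y
    have : IsLocalization.AtPrime (Y.presheaf.stalk y) P := by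
      have := hV.isLocalization_stalk y
      rwa [hpy] at this
    let e : Localization.AtPrime P ≃ₐ[Γ(Y, V)] Y.presheaf.stalk y :=
      IsLocalization.algEquiv P.primeCompl _ _
    obtain ⟨hreg, hdim⟩ := hY y
    have hreg' : IsRegularLocalRing (Localization.AtPrime P) :=
      IsRegularLocalRing.of_ringEquiv e.toRingEquiv.symm
    have hdim1 : ringKrullDim (Localization.AtPrime P) = 1 := by
      refine le_antisymm (e.toRingEquiv.ringKrullDim.trans_le hdim) ?_
      rw [IsLocalization.AtPrime.ringKrullDim_eq_height P]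
      have : P.height ≠ 0 := by
        rw [Ne, Ideal.height_eq_zero_iff_eq_bot]
        exact hP
      exact WithBot.coe_le_coe.mpr (Order.one_le_iff_pos.mpr (pos_iff_ne_zero.mpr this))
    obtain ⟨_, h⟩ := (RegLoc.Completion.exists_isDiscreteValuationRing_iff _).mpr ⟨hreg', hdim1⟩
    exact h⟩
  infer_instance

/-- A scheme with a schematically dominant morphism from a scheme over the generic point is flat. -/
theorem flat_of_schemeTheoreticallyDominant [IsLocallyNoetherian Y]
    (hY : ∀ y : Y, IsRegularLocalRing (Y.presheaf.stalk y) ∧ ringKrullDim (Y.presheaf.stalk y) ≤ 1)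
    (g : Z ⟶ Y) (w : Z' ⟶ Z) [IsSchemeTheoreticallyDominant w] [QuasiCompact w]
    (hg : ∀ a, g (w a) = genericPoint Y) : Flat g := by
  refine ⟨fun {V} hV {U} hU e => ?_⟩
  algebraize [(g.appLE V U e).hom]
  change Module.Flat Γ(Y, V) Γ(Z, U)
  rcases isEmpty_or_nonempty U with hU0 | ⟨⟨a₀, ha₀⟩⟩
  · have : U = ⊥ := le_bot_iff.mp fun a ha => (hU0.false ⟨a, ha⟩).elim
    subst this
    have : Subsingleton Γ(Z, ⊥) := inferInstance
    infer_instance
  have : Nonempty V := ⟨⟨g a₀, e ha₀⟩⟩
  have : IsDedekindDomain Γ(Y, V) := isDedekindDomain_sections hY hV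
  rw [IsDedekindDomain.flat_iff_torsion_eq_bot, Submodule.eq_bot_iff]
  intro s hs
  obtain ⟨⟨r, hr⟩, hrs⟩ := hs
  apply w.app_injective U
  rw [map_zero]
  have hu : IsUnit ((w.app U).hom ((g.appLE V U e).hom r)) := by
    refine Z'.toRingedSpace.isUnit_of_isUnit_germ _ _ fun a ha => ?_
    refine (Z'.mem_basicOpen _ a ha).mp ?_
    rw [← Scheme.preimage_basicOpen, Scheme.Hom.mem_preimage, Scheme.basicOpen_appLE]
    refine ⟨ha, ?_⟩
    change g (w a) ∈ Y.basicOpen r
    rw [hg, Scheme.mem_basicOpen _ _ _
      (((genericPoint_spec Y).mem_open_set_iff V.2).mpr (by simpa using ‹Nonempty V›))]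
    exact IsUnit.mk0 _ fun h => nonZeroDivisors.ne_zero hr
      ((map_eq_zero_iff _ (Y.germToFunctionField_injective V)).mp h)
  have h0 : (g.appLE V U e).hom r * s = 0 := hrs
  have h1 := congrArg (w.app U).hom h0
  rw [map_mul, map_zero] at h1
  exact hu.mul_right_eq_zero.mp h1

end Groth.Agent.FDesc.GenericClosure
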