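import Groth.Agent.LimTop.Cons
import Mathlib.AlgebraicGeometry.Morphisms.QuasiSeparated
import Mathlib.AlgebraicGeometry.Properties

/-!
# Closure of pro-constructible sets: a point of the closure is a specialization of a point of the set
-/

universe u

open CategoryTheory AlgebraicGeometry Topology TopologicalSpace

namespace Groth.Agent.FDesc.ProConsClosure

theorem exists_specializes_of_mem_closure {Y : Scheme.{u}} {E : Set Y}
    (hE : ProCons.IsProConstructible E) {y : Y} (hy : y ∈ closure E) : ∃ e ∈ E, e ⤳ y := by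
  obtain ⟨V, hV, hyV, -⟩ := exists_isAffineOpen_mem_and_subset (Opens.mem_top y)
  have : IsAffine V.toScheme := hV
  let j := V.ι
  let τ := WithConstructibleTopology V.toScheme
  let y' : V.toScheme := ⟨y, hyV⟩
  let B : Type u := {W : V.toScheme.Opens // IsCompact (W : Set V.toScheme) ∧ y' ∈ W}
  let K : B → Set τ := fun W => WithTopology.ofTopology ⁻¹' ((W.1 : Set V.toScheme) ∩ j ⁻¹' E)
  have hKc : ∀ W, IsClosed (K W) := fun W => by
    refine (WithTopology.isClosed_iff _).mpr ?_
    exact @IsClosed.inter _ _ _ (constructibleTopology _)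
      (LimTop.isClopen_cons_of_isConstructible (W.2.1.isConstructible W.1.2)).2
      (LimTop.isClosed_cons_preimage j hE)
  have hne : ∀ W, (K W).Nonempty := fun W => by
    obtain ⟨z, ⟨w, hw, rfl⟩, hzE⟩ := mem_closure_iff.mp hy (j '' (W.1 : Set V.toScheme))
      (j.isOpenEmbedding.isOpenMap _ W.1.2) ⟨⟨y, hyV⟩, W.2.2, rfl⟩
    exact ⟨WithTopology.toTopology _ w, hw, hzE⟩
  have : Nonempty B := ⟨⟨⊤, isCompact_univ, trivial⟩⟩
  have hdir : Directed (fun a b => b ⊆ a) K := by
    intro W W'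
    obtain ⟨_, ⟨hW''o, hW''c⟩, hy'', hsub⟩ :=
      PrespectralSpace.isTopologicalBasis.exists_subset_of_mem_open
        (show y' ∈ ((W.1 ⊓ W'.1 : V.toScheme.Opens) : Set V.toScheme) from ⟨W.2.2, W'.2.2⟩)
        (W.1 ⊓ W'.1).2
    exact ⟨⟨⟨_, hW''o⟩, hW''c, hy''⟩, fun z hz => ⟨(hsub hz.1).1, hz.2⟩,
      fun z hz => ⟨(hsub hz.1).2, hz.2⟩⟩
  obtain ⟨z, hz⟩ := IsCompact.nonempty_iInter_of_directed_nonempty_isCompact_isClosed K
    hdir hne (fun W => (hKc W).isCompact) hKc
  rw [Set.mem_iInter] at hz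
  refine ⟨j z.ofTopology, (hz (Classical.arbitrary B)).2, ?_⟩
  have : z.ofTopology ⤳ y' := by
    rw [specializes_iff_forall_open]
    intro s hs hys
    obtain ⟨t, ⟨hto, htc⟩, hyt, hts⟩ :=
      PrespectralSpace.isTopologicalBasis.exists_subset_of_mem_open hys hs
    exact hts (hz ⟨⟨t, hto⟩, htc, hyt⟩).1
  exact this.map j.continuous

end Groth.Agent.FDesc.ProConsClosure
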